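import Cfsg.Agent.E7P.Defs
import Cfsg.Agent.R2.H9.E6.Num
import Cfsg.Agent.R2.T1.Five.Main
import Cfsg.Agent.H952.F4.MaxA
import Cfsg.Agent.H487.SchurPerfect
import Cfsg.Agent.S2117
import Cfsg.Agent.S0252
import Cfsg.Agent.S0253
import Cfsg.Agent.S0254
import Cfsg.Agent.S5929

/-!
# S5932: reduction to the situation `Sit` (helper32)

`of_box` : the statement from `Box fun _ _ _ => True`.
-/

set_option autoImplicit false

namespace Cfsg.Agent.E7P

open Cfsg Cfsg.Lie Module Matrix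
open Cfsg.Agent.R2.T1
open Cfsg.Agent.R2.H9.E6

universe u v

theorem bound_e7 {F : Type u} [Field F] [Fintype F] {p b : ℕ} (hp : p.Prime) (hF : Fintype.card F = p ^ b)
    {K : Type v} [Field K] [Fintype K] {a : ℕ} (ha : 1 ≤ a) (hK : Fintype.card K = p ^ a) (h8 : p ^ a ≠ 8)
    {φ : ProjectiveSpecialLinearGroup (Fin 2) K →* ↥(chevE7.group F)} (hφ : Function.Injective φ) :
    ∃ d ∈ [1, 3, 4, 5, 6, 7, 9], a ∣ b * d := by
  by_cases h1 : a = 1
  · exact ⟨1, by simp, by rw [h1]; exact one_dvd _⟩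
  have h3 : ¬ (p = 2 ∧ a = 3) := by
    rintro ⟨rfl, rfl⟩
    exact h8 rfl
  obtain ⟨r, hr, hr2, hrp, hra, hrb, hrc⟩ := exists_prim p a hp ha h1 h3
  have h4 := (prime_dvd_psl hK hr hr2 hra).trans (Subgroup.card_dvd_of_injective φ hφ)
  have h5 := order (K := F)
  rw [Nat.card_eq_fintype_card (α := F), hF] at h5
  have h6 := h4.trans (Dvd.intro_left _ h5)
  have key : ∀ d, r ∣ (p ^ b) ^ (2 * d) - 1 → a ∣ b * d := by
    intro d hd
    rw [← pow_mul] at hd
    have h7 := dvd_of_primitive hp.one_lt hr hrb hrc (by omega) hd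
    rw [show b * (2 * d) = 2 * (b * d) by ring] at h7
    exact Nat.dvd_of_mul_dvd_mul_left two_pos h7
  have hq : ¬ r ∣ (p ^ b) ^ 63 := by
    intro h
    exact hrp ((Nat.prime_dvd_prime_iff_eq hr hp).1 (hr.dvd_of_dvd_pow (hr.dvd_of_dvd_pow h)))
  simp only [Nat.Prime.dvd_mul hr] at h6
  rcases h6 with ((((((h | h) | h) | h) | h) | h) | h) | h
  · exact absurd h hq
  · exact ⟨1, by simp, key 1 h⟩
  · exact ⟨3, by simp, key 3 h⟩
  · exact ⟨4, by simp, key 4 h⟩
  · exact ⟨5, by simp, key 5 h⟩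
  · exact ⟨6, by simp, key 6 h⟩
  · exact ⟨7, by simp, key 7 h⟩
  · exact ⟨9, by simp, key 9 h⟩

theorem exists_emb_closed {K : Type v} [Field K] [Finite K] {k : Type u} [Field k] [IsAlgClosed k] (p : ℕ)
    [Fact p.Prime] [CharP K p] [CharP k p] : Nonempty (K →+* k) := by
  let _ : Algebra (ZMod p) K := ZMod.algebra K p
  let _ : Algebra (ZMod p) k := ZMod.algebra k p
  have : Algebra.IsAlgebraic (ZMod p) K := Algebra.IsAlgebraic.of_finite _ _
  exact ⟨(IsAlgClosed.lift (R := ZMod p) (S := K) (M := k)).toRingHom⟩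

/-- **reduction of S5932** -/
theorem of_box (hB : Box.{u, v} fun _ _ _ => True)
    {F : Type u} {K : Type v} [Field F] [Fintype F] [Field K] [Fintype K] (p a b : ℕ) [Fact p.Prime] (ha : 1 ≤ a)
    (hb : 1 ≤ b) (hF : Fintype.card F = p ^ b) (hK : Fintype.card K = p ^ a) (H : Subgroup ↥(chevE7.group F))
    (hH : IsCoatom H)
    (hL : Nonempty (↥(generalizedFittingSubgroup ↥H) ≃* ProjectiveSpecialLinearGroup (Fin 2) K)) :
    (p ^ a = 7 ∨ p ^ a = 8 ∨ p ^ a = 19 ∨ p ^ a = 25) ∨ (17 ≤ p ∧ a = b) ∨ a = 7 * b := by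
  have hp : p.Prime := Fact.out
  by_cases h7 : p ^ a = 7
  · exact Or.inl (Or.inl h7)
  by_cases h8 : p ^ a = 8
  · exact Or.inl (Or.inr (Or.inl h8))
  by_cases h19 : p ^ a = 19
  · exact Or.inl (Or.inr (Or.inr (Or.inl h19)))
  by_cases h25 : p ^ a = 25
  · exact Or.inl (Or.inr (Or.inr (Or.inr h25)))
  by_cases hab : a = 7 * b
  · exact Or.inr (Or.inr hab)
  right; left
  obtain ⟨e⟩ := hL
  have h4 := four_le_of_genFitting e
  have hCF : CharP F p := charP_of_card_eq_prime_pow hF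
  have hCK : CharP K p := charP_of_card_eq_prime_pow hK
  have hs : IsSimpleGroup ↥(chevE7.group F) := simpleE7
  have two : ∀ {m n : ℕ}, m.Prime → n.Prime → m ∣ p ^ a → n ∣ p ^ a → m = n := fun hm hn h1 h2 =>
    ((Nat.prime_dvd_prime_iff_eq hm hp).1 (hm.dvd_of_dvd_pow h1)).trans
      ((Nat.prime_dvd_prime_iff_eq hn hp).1 (hn.dvd_of_dvd_pow h2)).symm
  have h6 : p ^ a ≠ 6 := fun h => by
    have := two Nat.prime_two Nat.prime_three (by rw [h]; norm_num) (by rw [h]; norm_num)
    omega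
  have h10 : p ^ a ≠ 10 := fun h => by
    have := two Nat.prime_two Nat.prime_five (by rw [h]; norm_num) (by rw [h]; norm_num)
    omega
  have five : Nonempty (ProjectiveSpecialLinearGroup (Fin 2) K ≃* alternatingGroup (Fin 5)) → False := by
    rintro ⟨e'⟩
    obtain ⟨φ, hφ⟩ := H952.F4.MaxA.exists_maxAlt hH le_rfl ⟨e.trans e'⟩
    exact Five.no_five hφ
  have h44 : p ^ a ≠ 4 := fun h => five (S0252.result (hK.trans h))
  have h55 : p ^ a ≠ 5 := fun h => five (S0253.result (hK.trans h))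
  have h9 : p ^ a ≠ 9 := fun h => by
    obtain ⟨e'⟩ := S0254.result (hK.trans h)
    have h1 := (S5929.result p H hH 6 (by norm_num) ⟨e.trans e'⟩).1
    have h2 := two Nat.prime_three hp (by rw [h]; norm_num) (dvd_pow_self p (by omega))
    omega
  have h11 : 11 ≤ p ^ a := by omega
  have hsA := psl_simple (K := K) h4
  obtain ⟨φ, hM⟩ := exists_maxSimp hH (psl_noncomm h4) ⟨e⟩
  obtain ⟨ψ0, hψ0⟩ := H487.exists_lift_of_trivial (P := SpecialLinearGroup (Fin 2) K)
    ⟨TwoFusion.SLTwoFacts.commutator_eq_top (F := K) (by omega)⟩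
    (S2117.result (by omega) (by omega)) (φ.comp pq) (ξ := ad F) ad_surjective (le_of_eq ker_ad)
  have hck : CharP (AlgebraicClosure F) p :=
    charP_of_injective_algebraMap (algebraMap F (AlgebraicClosure F)).injective p
  obtain ⟨ι⟩ := exists_emb_closed (K := K) (k := AlgebraicClosure F) p
  refine hB p a b F K (AlgebraicClosure F)
    { H := H
      φ := φ
      ψ0 := ψ0
      f := algebraMap F (AlgebraicClosure F)
      ι := ι
      s := iterateFrobenius (AlgebraicClosure F) p b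
      max := hM
      prime := hp
      ha := ha
      hb := hb
      charF := hCF
      charK := hCK
      chark := hck
      cardF := hF
      cardK := hK
      lift := fun g => DFunLike.congr_fun hψ0 g
      eleven := h11
      ne19 := h19
      ne25 := h25
      ne7 := hab
      bound := bound_e7 hp hF ha hK h8 hM.inj
      closed := inferInstance
      alg := Cfsg.Agent.H944.RootVals.hAlg_closure p F
      frob := fun t => by rw [Nat.card_eq_fintype_card, hF]; rfl } trivial

end Cfsg.Agent.E7P
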