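import Cfsg.Agent.E7P.Kf.Irr
import Cfsg.Agent.R2.T1.Mu.Equ

/-!
# S5932: the interface of the tasks (helper32)

See `notes/E7P/plan.md`.
* `Kf.Ge, Kf.Gt` : the filtration of a module by a real coweight; `Kf.lE` : the coweight of a cocharacter;
* `Kf.Cm x y` : commuting elements of the Lie algebra, `Kf.exists_br` : the bracket; `Kf.EPS` : the Springer map;
* `Sit.NoFix, NoFixV, CK, SSC, Stb, PT, NT` : the basic facts;
* `Sit.g0, Sit.β, Sit.P, Sit.P', Sit.Ru, Sit.Fg, Sit.FV, Sit.Frame, Sit.J1` : the optimal parabolic subgroup of `U`;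
* `Sit.Split, Sit.TorW, Sit.Alg` : the three steps to the algebraic overgroup.
-/

set_option autoImplicit false
set_option maxRecDepth 100000

namespace Cfsg.Agent.E7P

open Cfsg Cfsg.Lie Matrix Module
open Cfsg.Agent.H943.E7V.Block (D1 rho)
open Cfsg.Agent.R2.T1 Cfsg.Agent.E7P.Kf
open Cfsg.Agent.R2.PX (del)
open Cfsg.Agent.R2.H9.E6 (pq)
open Cfsg.Agent.H943.SL2Rel (u w h)

universe u v

namespace Kf

variable {K : Type u} [Field K]

section
variable {I : Type*}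

variable (K) in
/-- the vectors of level `≥ d` -/
def Ge (c : I → Fin 7 → ℤ) (β : E) (d : ℝ) : Submodule K (I → K) where
  carrier := {x | ∀ i, x i ≠ 0 → d ≤ bf β (cv (c i))}
  zero_mem' := fun _ h => absurd rfl h
  add_mem' := by
    intro x y hx hy i hi
    by_cases h : x i = 0
    · rw [Pi.add_apply, h, zero_add] at hi
      exact hy i hi
    · exact hx i h
  smul_mem' := fun _ _ hx i hi => hx i (right_ne_zero_of_mul hi)

variable (K) in
/-- the vectors of level `> d` -/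
def Gt (c : I → Fin 7 → ℤ) (β : E) (d : ℝ) : Submodule K (I → K) where
  carrier := {x | ∀ i, x i ≠ 0 → d < bf β (cv (c i))}
  zero_mem' := fun _ h => absurd rfl h
  add_mem' := by
    intro x y hx hy i hi
    by_cases h : x i = 0
    · rw [Pi.add_apply, h, zero_add] at hi
      exact hy i hi
    · exact hx i h
  smul_mem' := fun _ _ hx i hi => hx i (right_ne_zero_of_mul hi)

theorem mem_Ge {c : I → Fin 7 → ℤ} {β : E} {d : ℝ} {x : I → K} :
    x ∈ Ge K c β d ↔ ∀ i, x i ≠ 0 → d ≤ bf β (cv (c i)) := Iff.rfl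

theorem mem_Gt {c : I → Fin 7 → ℤ} {β : E} {d : ℝ} {x : I → K} :
    x ∈ Gt K c β d ↔ ∀ i, x i ≠ 0 → d < bf β (cv (c i)) := Iff.rfl

variable [Fintype I] [DecidableEq I] {c : I → Fin 7 → ℤ} {R : Gh K →* Matrix I I K}

theorem WRep.Ge_stab (hR : WRep c R) {β : E} {y : Gh K} (hy : y ∈ Pl K β) {d : ℝ} {x : I → K} (hx : x ∈ Ge K c β d) :
    R y *ᵥ x ∈ Ge K c β d := by
  intro i hi
  obtain ⟨j, h1, h2⟩ := exists_col hi
  exact (hx j h2).trans (hR.tri hy i j h1)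

theorem WRep.Gt_stab (hR : WRep c R) {β : E} {y : Gh K} (hy : y ∈ Pl K β) {d : ℝ} {x : I → K} (hx : x ∈ Gt K c β d) :
    R y *ᵥ x ∈ Gt K c β d := by
  intro i hi
  obtain ⟨j, h1, h2⟩ := exists_col hi
  exact (hx j h2).trans_le (hR.tri hy i j h1)

end

/-- the real coweight of the cocharacter `lam l` -/
noncomputable def lE (l : Fin 7 → ℤ) : E := ∑ i, (l i : ℝ) • al i

theorem bf_lE (l c : Fin 7 → ℤ) : bf (lE l) (cv c) = ((∑ i, c i * l i : ℤ) : ℝ) := by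
  rw [bf_symm, lE, map_sum]
  push_cast
  refine Finset.sum_congr rfl fun i _ => ?_
  rw [map_smul, bf_al, smul_eq_mul, mul_comm]
  rfl

theorem ch_lam (c l : Fin 7 → ℤ) (z : Kˣ) : ch c (lam l z) = z ^ ∑ i, c i * l i := by
  unfold ch lam
  have h1 : ∀ (s : Finset (Fin 7)) (f : Fin 7 → ℤ), z ^ ∑ i ∈ s, f i = ∏ i ∈ s, z ^ f i := by
    intro s f
    induction s using Finset.induction_on with
    | empty => rw [Finset.sum_empty, Finset.prod_empty, zpow_zero]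
    | insert i s hi ih => rw [Finset.sum_insert hi, Finset.prod_insert hi, _root_.zpow_add, ih]
  rw [h1]
  exact Finset.prod_congr rfl fun i _ => by rw [← _root_.zpow_mul, mul_comm]

/-- commuting elements of the Lie algebra -/
def Cm (x y : chevE7.Idx → K) : Prop := del K x * del K y = del K y * del K x

/-- **the bracket** -/
theorem exists_br (x y : chevE7.Idx → K) : ∃ z, del K z = del K x * del K y - del K y * del K x := by
  have key : ∀ i j : chevE7.Idx, del K (Pi.single i 1) * del K (Pi.single j 1) -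
      del K (Pi.single j 1) * del K (Pi.single i 1) ∈ LinearMap.range (del K) := by
    have hN : ∀ r < 126, NM K r ∈ LinearMap.range (del K) := fun r hr => ⟨_, R2.PX.del_inr ⟨r, hr⟩⟩
    have hH : ∀ (i : Fin chevE7.rank) (r : Fin chevE7.nroots), R2.PX.Hi K i * NM K r - NM K r * R2.PX.Hi K i ∈
        LinearMap.range (del K) := fun i r => by
      rw [R2.PX.Hi_comm r.2 i.2]
      exact Submodule.smul_mem _ _ (hN r r.2)
    rintro (i | r) (j | s)
    · rw [R2.PX.del_inl, R2.PX.del_inl, R2.PX.Hi, R2.PX.Hi, diagonal_mul_diagonal, diagonal_mul_diagonal]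
      simp only [mul_comm, sub_self]
      exact zero_mem _
    · rw [R2.PX.del_inl, R2.PX.del_inr]
      exact hH i s
    · rw [R2.PX.del_inl, R2.PX.del_inr, ← neg_sub]
      exact neg_mem (hH j r)
    · rw [R2.PX.del_inr, R2.PX.del_inr]
      by_cases h : s.val = 125 - r.val
      · rw [h, R2.PX.NM_comm_neg r.2, R2.PX.Hd_eq]
        exact Submodule.sum_mem _ fun i _ => Submodule.smul_mem _ _ ⟨_, R2.PX.del_inl i⟩
      · rw [R2.PX.NM_comm r.2 s.2 h]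
        rcases R2.PX.PC_spec r.2 s.2 with ⟨h1, -⟩ | ⟨h1, -, h3, -, -⟩
        · rw [R2.PX.csM_zero h1]
          exact zero_mem _
        · rw [R2.PX.csM_ne h1]
          exact Submodule.smul_mem _ _ (hN _ (by omega))
  have h1 : del K x * del K y - del K y * del K x ∈ LinearMap.range (del K) := by
    rw [pi_eq_sum_univ' x, pi_eq_sum_univ' y, map_sum, map_sum, Finset.sum_mul_sum, Finset.sum_mul_sum,
      Finset.sum_comm (s := Finset.univ) (t := Finset.univ)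
        (f := fun j i => del K (y j • (Pi.single j 1 : chevE7.Idx → K)) * del K (x i • (Pi.single i 1 : chevE7.Idx → K))),
      ← Finset.sum_sub_distrib]
    refine Submodule.sum_mem _ fun i _ => ?_
    rw [← Finset.sum_sub_distrib]
    refine Submodule.sum_mem _ fun j _ => ?_
    rw [map_smul, map_smul, smul_mul_smul_comm, smul_mul_smul_comm, mul_comm (y j), ← smul_sub]
    exact Submodule.smul_mem _ _ (key i j)
  exact h1

variable (K) in
/-- **the Springer map** (`p ≥ 5`, task BR) -/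
def EPS : Prop := ∀ (β : E) (z : chevE7.Idx → K), z ∈ Gt K ac β 0 → z ≠ 0 → ∃ y ∈ Ul K β, y ≠ 1 ∧
  (∀ x, Cm z x → adM K y *ᵥ x = x) ∧ ∀ g ∈ Pl K β, adM K g *ᵥ z = z → g * y = y * g

/-- the weights of `End V` -/
abbrev ec : D1 × D1 → Fin 7 → ℤ := fun x => wc x.1 + - wc x.2

variable (K) in
/-- the module `End V` -/
noncomputable abbrev eR : Gh K →* Matrix (D1 × D1) (D1 × D1) K := tenR (rho K) (dualR (rho K))

end Kf

namespace Sit

variable {p a b : ℕ} {F : Type u} {K : Type v} {k : Type u} [Field F] [Fintype F] [Field K] [Fintype K] [Field k]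
  (S : Sit p a b F K k)

/-! ### the basic facts -/

/-- `c` centralises `A` -/
def Cent (c : Gh k) : Prop := ∀ x, S.ψ x * c = c * S.ψ x

/-- `g^A = 0` -/
def NoFix : Prop := ∀ y : chevE7.Idx → k, (∀ x, adM k (S.ψ x) *ᵥ y = y) → y = 0

/-- `V^A = 0` -/
def NoFixV : Prop := ∀ y : D1 → k, (∀ x, rho k (S.ψ x) *ᵥ y = y) → y = 0

/-- the centraliser of `A` has no element of order `p` -/
def CK : Prop := ∀ c, S.Cent c → c ^ p = 1 → c = 1

/-- no element of the centraliser of `A` is multiplied by `-1` by the Frobenius map (`p` odd) -/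
def SSC : Prop := ∀ y, S.Cent y → V k (S.σ y) = - V k y → False

/-- no subgroup of a maximal torus which is normalised by `M` and `σ` contains a non-trivial cocharacter -/
def NT : Prop := ∀ (D : Subgroup (Gh k)) (g : Gh k) (l : Fin 7 → ℤ), (∀ x ∈ D, S.σ x ∈ D) →
  (∀ m ∈ S.M, ∀ x ∈ D, m * x * m⁻¹ ∈ D) → (∀ x ∈ D, ∃ c, x = g * Phi k c * g⁻¹) →
  (∀ z, g * Phi k (lam l z) * g⁻¹ ∈ D) → l = 0

section
variable {I : Type} [Fintype I] [DecidableEq I] (R : Gh k →* Matrix I I k)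

/-- subspaces which are stable under `M` and under the Frobenius map -/
def Stb (W : Submodule k (I → k)) : Prop := (∀ m ∈ S.M, ∀ x ∈ W, R m *ᵥ x ∈ W) ∧ ∀ x ∈ W, S.sv x ∈ W

/-- pointwise stabilisers have no element of order `p` -/
def PT : Prop := ∀ W : Submodule k (I → k), S.Stb R W → (∃ x, ∃ y ∈ W, R (S.ψ x) *ᵥ y ≠ y) →
  ∀ c, (∀ y ∈ W, R c *ᵥ y = y) → c ^ p = 1 → c = 1

end

/-! ### the optimal parabolic subgroup of `U` -/

theorem ψ_u_ne {t : K} (ht : t ≠ 0) : S.ψ (u t) ≠ 1 := by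
  intro h0
  have h1 : S.ψ0 (u t) = 1 := emb_injective S.f (by rw [map_one]; exact h0)
  have h2 := S.lift (u t)
  rw [h1, map_one] at h2
  have h3 : pq (u t) = 1 := S.max.inj (by rw [← h2, map_one])
  have h4 : u t ∈ Subgroup.center (SpecialLinearGroup (Fin 2) K) := (QuotientGroup.eq_one_iff _).1 h3
  have h5 : ((w : SpecialLinearGroup (Fin 2) K).1 * (u t).1) 0 0 = ((u t).1 * (w : SpecialLinearGroup (Fin 2) K).1) 0 0 :=
    congrArg (fun m : SpecialLinearGroup (Fin 2) K => m.1 0 0) (Subgroup.mem_center_iff.1 h4 w)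
  simp [u, w, Matrix.mul_apply, Fin.sum_univ_two] at h5
  exact ht h5

theorem ψ_u_pow (t : K) : S.ψ (u t) ^ p = 1 := by
  have := S.charK
  have h1 : ∀ n : ℕ, u t ^ n = u ((n : K) * t) := by
    intro n
    induction n with
    | zero => rw [pow_zero, Nat.cast_zero, zero_mul, H943.SL2Rel.u_zero]
    | succ n ih => rw [pow_succ, ih, ← H943.SL2Rel.u_add, Nat.cast_succ, add_mul, one_mul]
  rw [← map_pow, h1, CharP.cast_eq_zero, zero_mul, H943.SL2Rel.u_zero, map_one]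

/-- the group `U` -/
def U : Subgroup (Gh k) where
  carrier := {y | ∃ t, y = S.ψ (u t)}
  one_mem' := ⟨0, by rw [H943.SL2Rel.u_zero, map_one]⟩
  mul_mem' := by
    rintro _ _ ⟨s, rfl⟩ ⟨t, rfl⟩
    exact ⟨s + t, by rw [H943.SL2Rel.u_add, map_mul]⟩
  inv_mem' := by
    rintro _ ⟨s, rfl⟩
    exact ⟨-s, by rw [H943.SL2Rel.u_neg, map_inv]⟩

theorem isPGroup_U : IsPGroup p S.U := by
  rintro ⟨_, t, rfl⟩
  exact ⟨1, Subtype.ext (by rw [pow_one]; exact S.ψ_u_pow t)⟩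

/-- the tuple of `U` -/
def XU : Set (D1 × D1 → k) := {v | ∃ t : K, v = Kf.vec (rho k (S.ψ (u t)) - 1)}

theorem eR_vec (y x : Gh k) : eR k y *ᵥ Kf.vec (rho k x - 1) = Kf.vec (rho k (y * x * y⁻¹) - 1) := by
  rw [endo_mulVec, mul_sub, mul_one, sub_mul, ← map_mul, ← map_mul, ← map_mul, mul_inv_cancel, map_one]

theorem unst_XU : Unst ec (eR k) S.XU := by
  have := S.closed
  have := S.chark
  obtain ⟨g, hg⟩ := exists_conj_tri S.prime S.alg S.isPGroup_U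
  refine ⟨⟨_, ⟨1, rfl⟩, fun h0 => S.ψ_u_ne one_ne_zero (rho_injective ?_)⟩, g, rho1, ?_⟩
  · rw [map_one, ← sub_eq_zero]
    ext i j
    exact congrFun h0 (i, j)
  · rintro _ ⟨t, rfl⟩ i hi
    rw [eR_vec, inv_inv] at hi
    have h1 := hg _ ⟨t, rfl⟩ i.1 i.2 hi
    rw [cv_add, cv_neg, map_add, map_neg]
    exact sub_pos.2 h1

theorem exists_g0 : ∃ x : Gh k × E, x.2 ≠ 0 ∧ Dom x.2 ∧ Opt bf (St ec (eR k) S.XU) x.1 x.2 ∧
    (∀ y : Gh k, (∀ v ∈ S.XU, eR k y⁻¹ *ᵥ v ∈ S.XU) → x.1⁻¹ * y * x.1 ∈ Pl k x.2) ∧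
    ∀ s : k →+* k, (∀ v ∈ S.XU, ∃ v' ∈ S.XU, v = fun i => s (v' i)) → x.1⁻¹ * emb s x.1 ∈ Pl k x.2 := by
  have := S.closed
  obtain ⟨g, β, h⟩ := wrep_V.endo.kempf S.unst_XU
  exact ⟨(g, β), h⟩

/-- the optimal pair of `U` -/
noncomputable def g0 : Gh k := S.exists_g0.choose.1

/-- the optimal pair of `U` -/
noncomputable def β : E := S.exists_g0.choose.2

theorem β_ne : S.β ≠ 0 := S.exists_g0.choose_spec.1

theorem β_dom : Dom S.β := S.exists_g0.choose_spec.2.1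

theorem β_opt : Opt bf (St ec (eR k) S.XU) S.g0 S.β := S.exists_g0.choose_spec.2.2.1

/-- the level of the elements of `U` -/
noncomputable def nn : ℝ := bf S.β S.β

theorem nn_pos : 0 < S.nn := bf_pd.pos _ S.β_ne

/-- the optimal parabolic subgroup of `U` -/
noncomputable def P : Subgroup (Gh k) := (Pl k S.β).comap (MulAut.conj S.g0⁻¹).toMonoidHom

/-- its unipotent radical -/
noncomputable def Ru : Subgroup (Gh k) := (Ul k S.β).comap (MulAut.conj S.g0⁻¹).toMonoidHom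

/-- the optimal parabolic subgroup of the opposite group -/
noncomputable def P' : Subgroup (Gh k) := S.P.comap (MulAut.conj (S.ψ w)⁻¹).toMonoidHom

theorem mem_P {y : Gh k} : y ∈ S.P ↔ S.g0⁻¹ * y * S.g0 ∈ Pl k S.β := by
  show S.g0⁻¹ * y * S.g0⁻¹⁻¹ ∈ Pl k S.β ↔ _
  rw [inv_inv]

theorem mem_Ru {y : Gh k} : y ∈ S.Ru ↔ S.g0⁻¹ * y * S.g0 ∈ Ul k S.β := by
  show S.g0⁻¹ * y * S.g0⁻¹⁻¹ ∈ Ul k S.β ↔ _
  rw [inv_inv]

theorem mem_P' {y : Gh k} : y ∈ S.P' ↔ (S.ψ w)⁻¹ * y * S.ψ w ∈ S.P := by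
  show (S.ψ w)⁻¹ * y * (S.ψ w)⁻¹⁻¹ ∈ S.P ↔ _
  rw [inv_inv]

/-- the normaliser of `U` lies in `P` -/
theorem mem_P_of_norm {y : Gh k} (hy : ∀ x ∈ S.U, y⁻¹ * x * y ∈ S.U) : y ∈ S.P := by
  refine S.mem_P.2 (S.exists_g0.choose_spec.2.2.2.1 y ?_)
  rintro _ ⟨t, rfl⟩
  obtain ⟨s, hs⟩ := hy _ ⟨t, rfl⟩
  exact ⟨s, by rw [eR_vec, inv_inv, hs]⟩

theorem g0_σ : S.g0⁻¹ * S.σ S.g0 ∈ Pl k S.β := by
  refine S.exists_g0.choose_spec.2.2.2.2 S.s ?_
  rintro _ ⟨t, rfl⟩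
  refine ⟨_, ⟨t, rfl⟩, funext fun i => ?_⟩
  show (rho k (S.ψ (u t)) - 1) i.1 i.2 = S.s ((rho k (S.ψ (u t)) - 1) i.1 i.2)
  have h1 := congrFun (congrFun (rho_emb S.s (S.ψ (u t))) i.1) i.2
  rw [show emb S.s (S.ψ (u t)) = S.ψ (u t) from S.k_σ_ψ _, map_apply] at h1
  rw [Matrix.sub_apply, map_sub, ← h1, one_apply, apply_ite S.s, map_one, map_zero]

/-- the elements of `U` have level `≥ nn` -/
theorem u_level (t : K) (i j : D1) (hij : (rho k (S.g0⁻¹ * S.ψ (u t) * S.g0) - 1) i j ≠ 0) :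
    bf S.β (wv j) + S.nn ≤ bf S.β (wv i) := by
  have h1 := S.β_opt.1.2 (cv (ec (i, j))) ⟨(i, j), rfl, _, ⟨t, rfl⟩, by rw [eR_vec, inv_inv]; exact hij⟩
  rw [cv_add, cv_neg, map_add, map_neg] at h1
  have h2 : S.nn ≤ bf S.β (wv i) + - bf S.β (wv j) := h1
  linarith

theorem U_le_Ru : S.U ≤ S.Ru := by
  rintro _ ⟨t, rfl⟩
  refine S.mem_Ru.2 ⟨S.mem_P.1 (S.mem_P_of_norm fun x hx => ?_), fun i j hij => ?_⟩
  · exact mul_mem (mul_mem (inv_mem (show S.ψ (u t) ∈ S.U from ⟨t, rfl⟩)) hx) ⟨t, rfl⟩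
  · have h1 := S.u_level t i j hij
    have h2 := S.nn_pos
    linarith

/-- the filtration of the Lie algebra -/
noncomputable def Fg (d : ℝ) : Submodule k (chevE7.Idx → k) := (Ge k ac S.β d).comap (toLin' (adM k S.g0⁻¹))

/-- the filtration of the 56-dimensional module -/
noncomputable def FV (d : ℝ) : Submodule k (D1 → k) := (Ge k wc S.β d).comap (toLin' (rho k S.g0⁻¹))

/-- a maximal torus in `P ⊓ P'` which contains the torus of `A` -/
structure Frame where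
  g : Gh k
  l : List (Fin 7)
  hg : S.g0⁻¹ * g ∈ Pl k S.β
  hw : (g * nL k l)⁻¹ * S.ψ w * g ∈ Pl k S.β
  ht : ∀ c : Kˣ, ∃ t, S.ψ (h c) = g * Phi k t * g⁻¹

/-- `U` moves every vector of negative level by exactly `nn` (`p ≥ 5`, task BR) -/
def J1 : Prop := ∀ (y : chevE7.Idx → k) (d : ℝ), d ≤ S.nn → (∀ t, adM k (S.ψ (u t)) *ᵥ y - y ∈ S.Fg d) →
  y ∈ S.Fg (d - S.nn)

/-! ### the steps to the algebraic overgroup -/

/-- a triple which spans a simple submodule `L(2 p ^ j)` of the Lie algebra -/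
structure Tri (j : ℕ) (e x f : chevE7.Idx → k) : Prop where
  ne : e ≠ 0
  ue : ∀ t, adM k (S.ψ (u t)) *ᵥ e = e
  ux : ∀ t, adM k (S.ψ (u t)) *ᵥ x = x - (2 * S.ι t ^ p ^ j) • e
  uf : ∀ t, adM k (S.ψ (u t)) *ᵥ f = f + S.ι t ^ p ^ j • x - (S.ι t ^ p ^ j) ^ 2 • e
  we : adM k (S.ψ w) *ᵥ e = - f
  wx : adM k (S.ψ w) *ᵥ x = - x
  he : ∀ c : Kˣ, adM k (S.ψ (h c)) *ᵥ e = (S.ι c ^ p ^ j) ^ 2 • e

/-- a split triple of level `≥ nn` -/
def Split : Prop := ∃ j e x f, j < a ∧ S.Tri j e x f ∧ e ∈ S.Fg S.nn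

/-- a cocharacter in `P ⊓ P'` which acts by scalars on the weight spaces of an almost faithful stable subspace -/
structure TorW {I : Type} [Fintype I] [DecidableEq I] (R : Gh k →* Matrix I I k) where
  W : Submodule k (I → k)
  stb : S.Stb R W
  expo : ∃ N : ℕ, (N : k) ≠ 0 ∧ ∀ c, (∀ y ∈ W, R c *ᵥ y = y) → c ^ N = 1
  g : Gh k
  l : Fin 7 → ℤ
  ne : l ≠ 0
  mem : ∀ z, g * Phi k (lam l z) * g⁻¹ ∈ S.P ⊓ S.P'
  scal : ∀ θ : Kˣ → k, ∃ n : ℤ, ∀ y ∈ W, (∀ c, R (S.ψ (h c)) *ᵥ y = θ c • y) →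
    ∀ z : kˣ, R (g * Phi k (lam l z) * g⁻¹) *ᵥ y = ((z ^ n : kˣ) : k) • y

/-- **the algebraic overgroup** `A₁ⁿ` -/
structure Alg where
  n : ℕ
  npos : 0 < n
  ab : a = n * b
  Ξ : Fin n → (SpecialLinearGroup (Fin 2) k →* Gh k)
  comm : ∀ i j, i ≠ j → ∀ x y, Ξ i x * Ξ j y = Ξ j y * Ξ i x
  g : Gh k
  l : Fin n → Fin 7 → ℤ
  tor : ∀ i z, Ξ i (h z) = g * Phi k (lam (l i) z) * g⁻¹
  e : Fin n → chevE7.Idx → k
  D : Fin n → ℕ → Matrix D1 D1 k
  N : ℕ
  poly : ∀ i t, rho k (Ξ i (u t)) = ∑ m ∈ Finset.range (N + 2), t ^ m • D i m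
  D1 : ∀ i, D i 1 = del k (e i)
  ne : ∀ i, e i ≠ 0
  π : Equiv.Perm (Fin n)
  trans : ∀ i j, ∃ m : ℕ, (π ^ m) i = j
  frob : ∀ i x, S.σ (Ξ i x) = Ξ (π i) (SpecialLinearGroup.map S.s x)
  τ : Fin n → (K →+* k)
  res : ∀ x, S.ψ x = (List.ofFn fun i => Ξ i (SpecialLinearGroup.map (τ i) x)).prod
  norm : ∀ m ∈ S.M, ∃ ρ : Equiv.Perm (Fin n), ∀ i, ∃ γ : SpecialLinearGroup (Fin 2) k,
    ∀ x, m * Ξ i x * m⁻¹ = Ξ (ρ i) (γ * x * γ⁻¹)

end Sit

end Cfsg.Agent.E7P
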